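import Groth.Agent.QGorD.Skn
import Groth.Agent.DomDual.Basic
import Mathlib.RingTheory.LocalRing.Basic
import Mathlib.RingTheory.Localization.AtPrime.Basic

/-! Reflexive modules over Noetherian domains: localisation, local criterion. -/

set_option autoImplicit false
set_option linter.style.haveILetI false
universe u

namespace Groth.Agent.ReflLoc

open Groth.Agent

variable {A : Type u} [CommRing A] [IsNoetherianRing A] [IsDomain A]

theorem isReflexive_localized (p : Ideal A) [p.IsPrime] (G : Type u) [AddCommGroup G] [Module A G] [Module.Finite A G]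
    [Module.IsReflexive A G] :
    Module.IsReflexive (Localization.AtPrime p) (LocalizedModule p.primeCompl G) := by
  haveI : Module.Finite A (Module.Dual A (Module.Dual A G)) := Module.Finite.equiv (Module.evalEquiv A G)
  obtain ⟨m, n, i, u, hi, hu⟩ := QGorD.exists_dual_presentation (A := A) G
  let S := p.primeCompl
  let Rp := Localization.AtPrime p
  haveI : IsNoetherianRing Rp := IsLocalization.isNoetherianRing S _ inferInstance
  haveI : IsDomain Rp := IsLocalization.isDomain_localization (Ideal.primeCompl_le_nonZeroDivisors p)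
  let i' : G →ₗ[A] (Fin m → A) := i ∘ₗ (Module.evalEquiv A G).toLinearMap
  have hi' : Function.Injective i' := hi.comp (Module.evalEquiv A G).injective
  have hu' : Function.Exact i' u := fun x => (hu x).trans ⟨fun ⟨y, hy⟩ => ⟨(Module.evalEquiv A G).symm y, by
    rw [LinearMap.comp_apply, LinearEquiv.coe_coe, LinearEquiv.apply_symm_apply, hy]⟩, fun ⟨y, hy⟩ => ⟨_, hy⟩⟩
  let e : ∀ l : ℕ, LocalizedModule S (Fin l → A) ≃ₗ[Rp] (Fin l → Rp) := fun l =>
    (IsLocalizedModule.linearEquiv S (LocalizedModule.mkLinearMap S (Fin l → A))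
      (LinearMap.pi fun j => (Algebra.linearMap A Rp).comp (LinearMap.proj j))).extendScalarsOfIsLocalization S Rp
  haveI : Module.IsReflexive Rp (LocalizedModule S (Fin m → A)) := Module.equiv (e m).symm
  haveI : Module.IsTorsionFree Rp (LocalizedModule S (Fin n → A)) :=
    (e n).injective.moduleIsTorsionFree (e n) (e n).map_smul
  exact DomDual.isReflexive_of_exact (LocalizedModule.map S i') (LocalizedModule.map S u)
    (LocalizedModule.map_injective S i' hi') (LocalizedModule.map_exact S i' u hu')

theorem two_le_depth_localized (p : Ideal A) [p.IsPrime] (G : Type u) [AddCommGroup G] [Module A G] [Module.Finite A G]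
    [Module.IsReflexive A G] (h : 2 ≤ LocCoh.depth (Localization.AtPrime p) (Localization.AtPrime p)) :
    2 ≤ LocCoh.depth (Localization.AtPrime p) (LocalizedModule p.primeCompl G) := by
  haveI : IsNoetherianRing (Localization.AtPrime p) := IsLocalization.isNoetherianRing p.primeCompl _ inferInstance
  haveI := isReflexive_localized p G
  exact_mod_cast QGorD.le_idealDepth_of_isReflexive (A := Localization.AtPrime p) (LocalizedModule p.primeCompl G) 2 le_rfl
    (show ((2 : ℕ) : ℕ∞) ≤ LocCoh.idealDepth _ (Localization.AtPrime p) from h)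

theorem isReflexive_of_local (M : Type u) [AddCommGroup M] [Module A M] [Module.Finite A M]
    (h : ∀ (p : Ideal A) [p.IsPrime], Module.IsReflexive (Localization.AtPrime p) (LocalizedModule p.primeCompl M) ∨
      2 ≤ LocCoh.depth (Localization.AtPrime p) (LocalizedModule p.primeCompl M)) :
    Module.IsReflexive A M := by
  let ev := Module.Dual.eval A M
  have hinj : Function.Injective ev := by
    refine (injective_iff_map_eq_zero ev).2 fun m hm => by_contra fun hm0 => ?_
    haveI : Nontrivial (LinearMap.ker ev) := ⟨⟨m, hm⟩, 0, fun e => hm0 (congrArg Subtype.val e)⟩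
    obtain ⟨p, hp⟩ := associatedPrimes.nonempty A (LinearMap.ker ev)
    haveI := hp.isPrime
    obtain ⟨-, z, hz⟩ := isAssociatedPrime_iff.1 hp
    have hann : ∀ r : A, r ∈ p ↔ r • (z : M) = 0 := fun r => by
      rw [hz, Submodule.mem_colon_singleton, Submodule.mem_bot, Subtype.ext_iff]; rfl
    rcases h p with hR | hd
    · obtain ⟨s, hs, hs0⟩ := (QGorD.exists_smul_eq_eval p M hR).2 _ z.2
      exact hs ((hann s).2 hs0)
    · haveI : IsNoetherianRing (Localization.AtPrime p) := IsLocalization.isNoetherianRing p.primeCompl _ inferInstance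
      obtain ⟨x, hx, hreg⟩ := QGorD.exists_regular_of_one_le _ _ (le_trans (by norm_num) hd)
      obtain ⟨r, t, rfl⟩ := IsLocalization.exists_mk'_eq p.primeCompl x
      have hr : r ∈ p := (IsLocalization.AtPrime.mk'_mem_maximal_iff _ p r t).1 hx
      have h0 : LocalizedModule.mk (z : M) (1 : p.primeCompl) = 0 := by
        refine hreg ?_
        show IsLocalization.mk' (Localization.AtPrime p) r t • _ = IsLocalization.mk' (Localization.AtPrime p) r t • (0 : LocalizedModule p.primeCompl M)
        rw [smul_zero, ← Localization.mk_eq_mk', LocalizedModule.mk_smul_mk, (hann r).1 hr, LocalizedModule.zero_mk]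
      obtain ⟨s, hs⟩ := LocalizedModule.mk_eq.1 (h0.trans (LocalizedModule.zero_mk (1 : p.primeCompl)).symm)
      exact s.2 ((hann s).2 (by simpa [Submonoid.smul_def] using hs))
  haveI : Module.Finite A (Module.Dual A M) := by
    obtain ⟨n, f, hf⟩ := Module.Finite.exists_fin' A M
    exact Module.Finite.of_injective f.dualMap (LinearMap.dualMap_injective_of_surjective hf)
  refine ⟨⟨hinj, fun φ => by_contra fun hφ => ?_⟩⟩
  let C := Module.Dual A (Module.Dual A M) ⧸ LinearMap.range ev
  have hne : (Submodule.Quotient.mk φ : C) ≠ 0 := fun h0 => hφ ((Submodule.Quotient.mk_eq_zero _).1 h0)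
  haveI : Nontrivial C := ⟨⟨_, _, hne⟩⟩
  obtain ⟨p, hp⟩ := associatedPrimes.nonempty A C
  haveI := hp.isPrime
  obtain ⟨-, z, hz⟩ := isAssociatedPrime_iff.1 hp
  obtain ⟨ψ, rfl⟩ := Submodule.Quotient.mk_surjective _ z
  have hann : ∀ r : A, r ∈ p ↔ ∃ g, ev g = r • ψ := fun r => by
    rw [hz, Submodule.mem_colon_singleton, Submodule.mem_bot, ← Submodule.Quotient.mk_smul, Submodule.Quotient.mk_eq_zero, LinearMap.mem_range]
  rcases h p with hR | hd
  · obtain ⟨s, hs, hs0⟩ := (QGorD.exists_smul_eq_eval p M hR).1 ψ
    exact hs ((hann s).2 hs0)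
  · haveI : IsNoetherianRing (Localization.AtPrime p) := IsLocalization.isNoetherianRing p.primeCompl _ inferInstance
    haveI : Module.Finite (Localization.AtPrime p) (LocalizedModule p.primeCompl M) := inferInstance
    have hscale : ∀ {L : Type u} [AddCommGroup L] [Module (Localization.AtPrime p) L] (r : A) (t : p.primeCompl),
        IsSMulRegular L (IsLocalization.mk' (Localization.AtPrime p) r t) →
        IsSMulRegular L (algebraMap A (Localization.AtPrime p) r) := by
      intro L _ _ r t h
      rw [← IsLocalization.mk'_spec (Localization.AtPrime p) r t]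
      exact h.mul ((IsLocalization.map_units (Localization.AtPrime p) t).isSMulRegular L)
    obtain ⟨x', hx', hxreg'⟩ := QGorD.exists_regular_of_one_le _ _ (le_trans (by norm_num) hd)
    obtain ⟨x, t, rfl⟩ := IsLocalization.exists_mk'_eq p.primeCompl x'
    have hx : x ∈ p := (IsLocalization.AtPrime.mk'_mem_maximal_iff _ p x t).1 hx'
    have hxreg := hscale x t hxreg'
    obtain ⟨y', hy', hyreg⟩ := QGorD.exists_regMod_of_two_le hd
      ((IsLocalization.AtPrime.to_map_mem_maximal_iff (Localization.AtPrime p) p x).2 hx) hxreg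
    obtain ⟨y, t', rfl⟩ := IsLocalization.exists_mk'_eq p.primeCompl y'
    have hy : y ∈ p := (IsLocalization.AtPrime.mk'_mem_maximal_iff _ p y t').1 hy'
    rw [QGorD.regMod_iff] at hyreg
    have hyreg2 := (QGorD.regMod_iff _ _ _).2 (hscale y t' hyreg)
    obtain ⟨g, hg⟩ := (hann x).1 hx
    obtain ⟨g', hg'⟩ := (hann y).1 hy
    have hgg : y • g = x • g' := hinj (by rw [map_smul, map_smul, hg, hg', smul_comm])
    let mk := LocalizedModule.mkLinearMap p.primeCompl M
    obtain ⟨n', hn'⟩ := hyreg2 (mk g) (mk g') (by
      rw [algebraMap_smul, algebraMap_smul, ← map_smul, ← map_smul, hgg])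
    obtain ⟨⟨g₂, s⟩, hs⟩ := IsLocalizedModule.surj p.primeCompl mk n'
    have h1 : mk (s.1 • g) = mk (x • g₂) := by
      rw [map_smul, map_smul, ← hs, hn', algebraMap_smul, Submonoid.smul_def, smul_comm]
    obtain ⟨c, hc⟩ := IsLocalizedModule.exists_of_eq (S := p.primeCompl) h1
    have hmem : c.1 * s.1 ∈ p := by
      refine (hann _).2 ⟨c.1 • g₂, ?_⟩
      by_cases hx0 : x = 0
      · exfalso
        have hsub : Subsingleton (LocalizedModule p.primeCompl M) := ⟨fun a b => hxreg (by simp [hx0])⟩
        have hf : ∀ f : Module.Dual (Localization.AtPrime p) (LocalizedModule p.primeCompl M), f = 0 := fun f =>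
          LinearMap.ext fun a => by rw [Subsingleton.elim a 0, map_zero, map_zero]
        have hR : Module.IsReflexive (Localization.AtPrime p) (LocalizedModule p.primeCompl M) :=
          ⟨⟨fun a b _ => Subsingleton.elim a b, fun χ => ⟨0, LinearMap.ext fun f => by rw [hf f, map_zero, map_zero]⟩⟩⟩
        obtain ⟨s', hs', hs0⟩ := (QGorD.exists_smul_eq_eval p M hR).1 ψ
        exact hs' ((hann s').2 hs0)
      refine LinearMap.ext fun f => mul_left_cancel₀ hx0 ?_
      have := LinearMap.congr_fun (congrArg ev hc) f
      have hg0 := LinearMap.congr_fun hg f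
      simp only [Submonoid.smul_def, map_smul, LinearMap.smul_apply, smul_eq_mul] at this hg0 ⊢
      rw [hg0] at this
      linear_combination -this
    exact (p.primeCompl.mul_mem c.2 s.2) hmem

end Groth.Agent.ReflLoc
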